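import Groth.Agent.EtBCA.BCCoh
import Groth.Agent.EtBCA.BCQ.Paste
import Groth.Prelude.Def_FinFr

/-! composition laws for relative pullbacks on cohomology -/

universe u

open CategoryTheory CategoryTheory.Limits AlgebraicGeometry Opposite
open Groth.Agent.EtBCA

namespace Groth.Agent.Trace051

set_option backward.isDefEq.respectTransparency.types false

variable {W X Y Z : Scheme.{u}}

theorem pushComp_assoc (k : W ⟶ X) (g : X ⟶ Y) (t : Y ⟶ Z) (B : EtCoh.Ab W) :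
    (EtCoh.pushComp t g).hom.app ((EtCoh.push k).obj B) ≫ (EtCoh.pushComp (g ≫ t) k).hom.app B =
      (EtCoh.push t).map ((EtCoh.pushComp g k).hom.app B) ≫ (EtCoh.pushComp t (k ≫ g)).hom.app B ≫
        (EtCoh.pushCongr (Category.assoc k g t)).hom.app B := by
  refine Sheaf.hom_ext (NatTrans.ext (funext fun V => ?_))
  show B.obj.map _ ≫ B.obj.map _ = B.obj.map _ ≫ B.obj.map _ ≫ B.obj.map _
  rw [← Functor.map_comp, ← Functor.map_comp, ← Functor.map_comp]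
  apply congrArg B.obj.map
  apply Quiver.Hom.unop_inj
  apply MorphismProperty.Over.Hom.ext
  show (BCQ.cH k (g ≫ t) _ ≫ (EtCoh.bc k).map (BCQ.cH g t _)).left =
    (BCQ.cC (Category.assoc k g t) _ ≫ BCQ.cH (k ≫ g) t _ ≫ BCQ.cH k g _).left
  simp only [BCQ.compLeft]
  apply BCQ.pb_ext k
  · apply BCQ.pb_ext g
    · apply BCQ.pb_ext t <;> simp [BCQ.cH_fst_assoc, BCQ.cH_fst, BCQ.cC_fst_assoc, BCQ.cC_fst, BCQ.map_fst_assoc, BCQ.map_fst, BCQ.cH_snd, BCQ.cH_snd_assoc, BCQ.cC_snd, BCQ.cC_snd_assoc, BCQ.map_snd, BCQ.map_snd_assoc, BCQ.p_comm, BCQ.p_comm_assoc]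
    · simp [BCQ.cH_fst_assoc, BCQ.cH_fst, BCQ.cC_fst_assoc, BCQ.cC_fst, BCQ.map_fst_assoc, BCQ.map_fst, BCQ.cH_snd, BCQ.cH_snd_assoc, BCQ.cC_snd, BCQ.cC_snd_assoc, BCQ.map_snd, BCQ.map_snd_assoc, BCQ.p_comm, BCQ.p_comm_assoc]
  · simp [BCQ.cH_fst_assoc, BCQ.cH_fst, BCQ.cC_fst_assoc, BCQ.cC_fst, BCQ.map_fst_assoc, BCQ.map_fst, BCQ.cH_snd, BCQ.cH_snd_assoc, BCQ.cC_snd, BCQ.cC_snd_assoc, BCQ.map_snd, BCQ.map_snd_assoc, BCQ.p_comm, BCQ.p_comm_assoc]

theorem pullComp_assoc (k : W ⟶ X) (g : X ⟶ Y) (t : Y ⟶ Z) (G : EtCoh.Ab Z) :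
    (EtCore.pullComp (k ≫ g) t).hom.app G ≫ (EtCore.pullComp k g).hom.app ((EtCoh.pull t).obj G) =
      (EtCore.pullCongr (Category.assoc k g t)).hom.app G ≫ (EtCore.pullComp k (g ≫ t)).hom.app G ≫
        (EtCoh.pull k).map ((EtCore.pullComp g t).hom.app G) := by
  let B := (EtCoh.pull k).obj ((EtCoh.pull g).obj ((EtCoh.pull t).obj G))
  let b : (EtCoh.pull k).obj ((EtCoh.pull g).obj ((EtCoh.pull t).obj G)) ⟶ B := 𝟙 _
  suffices h : (EtCore.pullComp (k ≫ g) t).hom.app G ≫ (EtCore.pullComp k g).hom.app ((EtCoh.pull t).obj G) ≫ b =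
      (EtCore.pullCongr (Category.assoc k g t).symm.symm).hom.app G ≫ (EtCore.pullComp k (g ≫ t)).hom.app G ≫
        (EtCoh.pull k).map ((EtCore.pullComp g t).hom.app G) ≫ b by
    simpa [b] using h
  apply ((EtCoh.pullPushAdj ((k ≫ g) ≫ t)).homEquiv G B).injective
  rw [EtBCA.homEquiv_pullComp, EtBCA.homEquiv_pullComp, EtBCA.homEquiv_pullCongr (Category.assoc k g t).symm,
    EtBCA.homEquiv_pullComp, (EtCoh.pullPushAdj k).homEquiv_naturality_left, EtBCA.homEquiv_pullComp]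
  rw [(EtCoh.pullPushAdj t).homEquiv_naturality_right]
  simp only [Category.assoc]
  refine congrArg (_ ≫ ·) ?_
  have h := congrArg (· ≫ (EtCoh.pushCongr (Category.assoc k g t).symm).hom.app B) (pushComp_assoc k g t B)
  simp only [Category.assoc] at h
  refine Eq.trans ?_ h.symm
  have hc : (EtCoh.pushCongr (Category.assoc k g t)).hom.app B ≫
      (EtCoh.pushCongr (Category.assoc k g t).symm).hom.app B = 𝟙 _ := by
    generalize Category.assoc k g t = e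
    generalize hm : k ≫ g ≫ t = m at e
    subst e
    rw [EtBCA.pushCongr_refl]
    exact Category.id_comp _
  rw [hc, Category.comp_id]

/-- the canonical identification used by `HpullVia` -/
noncomputable abbrev viaHom (k : X ⟶ Y) (t : Y ⟶ Z) (f₀ : X ⟶ Z) (w : k ≫ t = f₀) (G : EtCoh.Ab Z) :=
  ((EtCore.pullComp k t).symm ≪≫ EtCore.pullCongr w).hom.app G

theorem viaHom_rfl (k : X ⟶ Y) (t : Y ⟶ Z) (G : EtCoh.Ab Z) :
    viaHom k t (k ≫ t) rfl G = (EtCore.pullComp k t).inv.app G := by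
  simp [viaHom, EtCore.pullCongr]

variable [Fact FinFr.PullExact.{u}]

/-- the relative pullback with exactness from `PullExact` -/
noncomputable def Via (k : X ⟶ Y) (t : Y ⟶ Z) (f₀ : X ⟶ Z) (w : k ≫ t = f₀) (G : EtCoh.Ab Z) (n : ℕ) :
    EtCoh.H Y ((EtCoh.pull t).obj G) n →+ EtCoh.H X ((EtCoh.pull f₀).obj G) n :=
  haveI := FinFr.pullExact_out k
  EtCore.HpullVia k t f₀ w G n

theorem via_apply (k : X ⟶ Y) (t : Y ⟶ Z) (f₀ : X ⟶ Z) (w : k ≫ t = f₀) (G : EtCoh.Ab Z) (n : ℕ)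
    [PreservesFiniteLimits (EtCoh.pull k)] (y : EtCoh.H Y ((EtCoh.pull t).obj G) n) :
    Via k t f₀ w G n y = (EtCoh.HF X n).map (viaHom k t f₀ w G) (EtCore.Hpull k _ n y) := rfl

theorem via_congr {k k' : X ⟶ Y} (h : k = k') (t : Y ⟶ Z) (f₀ : X ⟶ Z) (w : k ≫ t = f₀) (w' : k' ≫ t = f₀)
    (G : EtCoh.Ab Z) (n : ℕ) (y : EtCoh.H Y ((EtCoh.pull t).obj G) n) :
    Via k t f₀ w G n y = Via k' t f₀ w' G n y := by
  subst h
  rfl

theorem via_target (k : X ⟶ Y) (t : Y ⟶ Z) (f₀ f₁ : X ⟶ Z) (w : k ≫ t = f₀) (e : f₀ = f₁)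
    (G : EtCoh.Ab Z) (n : ℕ) (y : EtCoh.H Y ((EtCoh.pull t).obj G) n) :
    (EtCoh.HF X n).map ((EtCore.pullCongr e).hom.app G) (Via k t f₀ w G n y) = Via k t f₁ (w.trans e) G n y := by
  subst e
  show (EtCoh.HF X n).map (𝟙 _) _ = _
  rw [CategoryTheory.Functor.map_id]
  rfl

theorem via_comp {V : Scheme.{u}} (k : W ⟶ X) (g : X ⟶ Y) (t' : Y ⟶ V) (t : X ⟶ V) (f₀ : W ⟶ V)
    (w : g ≫ t' = t) (w₁ : k ≫ t = f₀) (w₂ : (k ≫ g) ≫ t' = f₀) (G : EtCoh.Ab V) (n : ℕ)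
    (y : EtCoh.H Y ((EtCoh.pull t').obj G) n) :
    Via k t f₀ w₁ G n (Via g t' t w G n y) = Via (k ≫ g) t' f₀ w₂ G n y := by
  subst w
  subst w₁
  have := FinFr.pullExact_out k
  have := FinFr.pullExact_out g
  have := FinFr.pullExact_out (k ≫ g)
  rw [via_apply, via_apply, via_apply, EtBCA.Hpull_natural]
  refine (congrArg (fun z => (EtCoh.HF W n).map (viaHom k (g ≫ t') (k ≫ g ≫ t') rfl G)
    ((EtCoh.HF W n).map ((EtCoh.pull k).map (viaHom g t' (g ≫ t') rfl G)) z))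
    (EtBCA.Hpull_comp k g ((EtCoh.pull t').obj G) n y).symm).trans ?_
  refine ((ConcreteCategory.comp_apply _ _ _).symm.trans (((ConcreteCategory.comp_apply _ _ _).symm).trans ?_))
  rw [← Functor.map_comp, ← Functor.map_comp, viaHom_rfl, viaHom_rfl]
  refine congrArg (fun m => (EtCoh.HF W n).map m (EtCore.Hpull (k ≫ g) ((EtCoh.pull t').obj G) n y)) ?_
  show _ = ((EtCore.pullComp (k ≫ g) t').symm ≪≫ EtCore.pullCongr w₂).hom.app G
  rw [Iso.trans_hom, Iso.symm_hom, NatTrans.comp_app, ← cancel_epi ((EtCore.pullComp (k ≫ g) t').hom.app G),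
    Iso.hom_inv_id_app_assoc, reassoc_of% (pullComp_assoc k g t' G), ← Functor.map_comp_assoc,
    Iso.hom_inv_id_app, CategoryTheory.Functor.map_id, Category.id_comp, Iso.hom_inv_id_app]
  exact Category.comp_id _

/-- relative pullback and an extra inverse image -/
theorem via_pullComp {V : Scheme.{u}} (k : W ⟶ X) (t : X ⟶ Y) (x : Y ⟶ V) (t₀ : W ⟶ Y) (w : k ≫ t = t₀)
    (w' : k ≫ t ≫ x = t₀ ≫ x) (G : EtCoh.Ab V) (n : ℕ) (y : EtCoh.H X ((EtCoh.pull (t ≫ x)).obj G) n) :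
    (EtCoh.HF W n).map ((EtCore.pullComp t₀ x).hom.app G) (Via k (t ≫ x) (t₀ ≫ x) w' G n y) =
      Via k t t₀ w ((EtCoh.pull x).obj G) n ((EtCoh.HF X n).map ((EtCore.pullComp t x).hom.app G) y) := by
  subst w
  have := FinFr.pullExact_out k
  rw [via_apply, via_apply, EtBCA.Hpull_natural, ← ConcreteCategory.comp_apply,
    ← ConcreteCategory.comp_apply, ← Functor.map_comp, ← Functor.map_comp, viaHom_rfl]
  refine congrArg (fun m => (EtCoh.HF W n).map m (EtCore.Hpull k ((EtCoh.pull (t ≫ x)).obj G) n y)) ?_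
  show ((EtCore.pullComp k (t ≫ x)).symm ≪≫ EtCore.pullCongr w').hom.app G ≫ _ = _
  rw [← cancel_mono ((EtCore.pullComp k t).hom.app ((EtCoh.pull x).obj G)), Category.assoc, pullComp_assoc,
    ← cancel_epi ((EtCore.pullComp k (t ≫ x)).hom.app G)]
  simp [EtCore.pullCongr, eqToHom_trans_assoc]

/-- the local comparison at a fixed point -/
theorem via_fixed [Fact FinFr.PullExact.{u}] {T X X₀ Y : Scheme.{u}}
    (s : T ⟶ X) (G : X ⟶ X) (GT : T ⟶ T) (π : X ⟶ X₀) (πT : T ⟶ Y) (x : Y ⟶ X₀) (hG : G ≫ π = π)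
    (hGT : GT ≫ πT = πT) (hs : s ≫ G = GT ≫ s) (ht : s ≫ π = πT ≫ x) (F : EtCoh.Ab X₀) (n : ℕ)
    (y : EtCoh.H X ((EtCoh.pull π).obj F) n) :
    (EtCoh.HF T n).map ((EtCore.pullComp πT x).hom.app F)
      ((EtCoh.HF T n).map ((EtCore.pullCongr ht).hom.app F) (Via s π _ rfl F n (Via G π π hG F n y))) =
    Via GT πT πT hGT ((EtCoh.pull x).obj F) n
      ((EtCoh.HF T n).map ((EtCore.pullComp πT x).hom.app F)
        ((EtCoh.HF T n).map ((EtCore.pullCongr ht).hom.app F) (Via s π _ rfl F n y))) := by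
  have hb : (s ≫ G) ≫ π = πT ≫ x := by rw [Category.assoc, hG]; exact ht
  have hc : (GT ≫ s) ≫ π = πT ≫ x := hs ▸ hb
  have h1 := via_target s π (s ≫ π) (πT ≫ x) rfl ht F n
  rw [h1, h1, via_comp s G π π (πT ≫ x) hG ht hb F n y, via_congr hs π (πT ≫ x) hb hc F n y,
    ← via_comp GT s π (πT ≫ x) (πT ≫ x) ht (by rw [← Category.assoc, hGT]) hc F n y]
  exact via_pullComp GT πT x πT hGT _ F n _

end Groth.Agent.Trace051
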