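import Groth.Agent.Trace051.Via
import Groth.Agent.EtFound.NoethACC
import Groth.Agent.EtFound.AbRecollement
import Groth.Agent.EtFound.JContGen
import Groth.Agent.EtLimCore.Degree0

/-! linear relative pullbacks, invariance of traces, extension by zero along the identity -/

universe u

open CategoryTheory CategoryTheory.Limits AlgebraicGeometry Opposite

namespace Groth.Agent.Trace051

set_option backward.isDefEq.respectTransparency.types false

variable {Λ : Type} [CommRing Λ] [Fact FinFr.PullExact.{u}]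

/-- equivariant maps are linear on cohomology -/
noncomputable def mapLin {X : Scheme.{u}} {L L' : EtLam.Sheaf Λ X} (φ : L.carrier ⟶ L'.carrier)
    (hφ : ∀ r, L.act r ≫ φ = φ ≫ L'.act r) (n : ℕ) : EtCoh.H X L.carrier n →ₗ[Λ] EtCoh.H X L'.carrier n where
  toFun := Sheaf.H.map φ n
  map_add' a b := map_add _ a b
  map_smul' r x := by
    change Sheaf.H.map φ n (Sheaf.H.map (L.act r) n x) = Sheaf.H.map (L'.act r) n (Sheaf.H.map φ n x)
    rw [← Sheaf.H.map_comp_apply, ← Sheaf.H.map_comp_apply, hφ]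

/-- equivariant isomorphisms give linear equivalences on cohomology -/
noncomputable def mapEquiv {X : Scheme.{u}} {L L' : EtLam.Sheaf Λ X} (φ : L.carrier ≅ L'.carrier)
    (hφ : ∀ r, L.act r ≫ φ.hom = φ.hom ≫ L'.act r) (n : ℕ) : EtCoh.H X L.carrier n ≃ₗ[Λ] EtCoh.H X L'.carrier n :=
  { mapLin φ.hom hφ n with
    invFun := Sheaf.H.map φ.inv n
    left_inv := fun x => by
      show Sheaf.H.map φ.inv n (Sheaf.H.map φ.hom n x) = x
      rw [← Sheaf.H.map_comp_apply, φ.hom_inv_id, Sheaf.H.map_id_apply]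
    right_inv := fun x => by
      show Sheaf.H.map φ.hom n (Sheaf.H.map φ.inv n x) = x
      rw [← Sheaf.H.map_comp_apply, φ.inv_hom_id, Sheaf.H.map_id_apply] }

/-- the linear relative pullback -/
noncomputable def viaLin {X Y Z : Scheme.{u}} (k : X ⟶ Y) (t : Y ⟶ Z) (f₀ : X ⟶ Z) (w : k ≫ t = f₀)
    (L : EtLam.Sheaf Λ Z) (n : ℕ) :
    EtCoh.H Y (EtLam.pullback t L).carrier n →ₗ[Λ] EtCoh.H X (EtLam.pullback f₀ L).carrier n where
  toFun := Via k t f₀ w L.carrier n
  map_add' a b := map_add _ a b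
  map_smul' r x := by
    change Via k t f₀ w L.carrier n (Sheaf.H.map ((EtCoh.pull t).map (L.act r)) n x) =
      Sheaf.H.map ((EtCoh.pull f₀).map (L.act r)) n (Via k t f₀ w L.carrier n x)
    have := FinFr.pullExact_out k
    exact EtCore.HpullVia_natural k t f₀ w (L.act r) n x

/-- transport along an equality of morphisms -/
noncomputable def congrEquiv {X Y : Scheme.{u}} {f f' : X ⟶ Y} (h : f = f') (L : EtLam.Sheaf Λ Y) (n : ℕ) :
    EtCoh.H X (EtLam.pullback f L).carrier n ≃ₗ[Λ] EtCoh.H X (EtLam.pullback f' L).carrier n :=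
  mapEquiv ((EtCore.pullCongr h).app L.carrier) (fun r => (EtCore.pullCongr h).hom.naturality (L.act r)) n

/-- the composite inverse image -/
noncomputable def compEquiv {X Y Z : Scheme.{u}} (f : X ⟶ Y) (g : Y ⟶ Z) (L : EtLam.Sheaf Λ Z) (n : ℕ) :
    EtCoh.H X (EtLam.pullback (f ≫ g) L).carrier n ≃ₗ[Λ]
      EtCoh.H X (EtLam.pullback f (EtLam.pullback g L)).carrier n :=
  mapEquiv (L := EtLam.pullback (f ≫ g) L) (L' := EtLam.pullback f (EtLam.pullback g L))
    ((EtCore.pullComp f g).app L.carrier) (fun r => (EtCore.pullComp f g).hom.naturality (L.act r)) n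

theorem viaLin_apply {X Y Z : Scheme.{u}} (k : X ⟶ Y) (t : Y ⟶ Z) (f₀ : X ⟶ Z) (w : k ≫ t = f₀)
    (L : EtLam.Sheaf Λ Z) (n : ℕ) (x : EtCoh.H Y (EtLam.pullback t L).carrier n) :
    viaLin k t f₀ w L n x = Via k t f₀ w L.carrier n x := rfl

theorem congrEquiv_apply {X Y : Scheme.{u}} {f f' : X ⟶ Y} (h : f = f') (L : EtLam.Sheaf Λ Y) (n : ℕ)
    (x : EtCoh.H X (EtLam.pullback f L).carrier n) :
    congrEquiv h L n x = (EtCoh.HF X n).map ((EtCore.pullCongr h).hom.app L.carrier) x := rfl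

theorem compEquiv_apply {X Y Z : Scheme.{u}} (f : X ⟶ Y) (g : Y ⟶ Z) (L : EtLam.Sheaf Λ Z) (n : ℕ)
    (x : EtCoh.H X (EtLam.pullback (f ≫ g) L).carrier n) :
    compEquiv f g L n x = (EtCoh.HF X n).map ((EtCore.pullComp f g).hom.app L.carrier) x := rfl

section Frob

variable {k : Type u} [Field k] {K : Type u} [Field K] [Algebra k K] [Fintype k] [Algebra.IsAlgebraic k K]
  {X₀ : Scheme.{u}} (a : X₀ ⟶ Spec (CommRingCat.of k))

theorem trace_frob_eq_of_iso {L L' : EtLam.Sheaf Λ X₀} (φ : L.carrier ≅ L'.carrier)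
    (hφ : ∀ r, L.act r ≫ φ.hom = φ.hom ≫ L'.act r) (n : ℕ) :
    LinearMap.trace Λ _ (FinFr.frob (K := K) a L n) = LinearMap.trace Λ _ (FinFr.frob (K := K) a L' n) := by
  let e := mapEquiv (L := EtLam.pullback (FinFr.extπ K a) L) (L' := EtLam.pullback (FinFr.extπ K a) L')
    ((EtCoh.pull (FinFr.extπ K a)).mapIso φ) (fun r => by
      show (EtCoh.pull _).map (L.act r) ≫ (EtCoh.pull _).map φ.hom = (EtCoh.pull _).map φ.hom ≫ (EtCoh.pull _).map (L'.act r)
      rw [← Functor.map_comp, ← Functor.map_comp, hφ]) n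
  rw [← LinearMap.trace_conj' (FinFr.frob (K := K) a L n) e]
  congr 1
  refine LinearMap.ext fun x => ?_
  obtain ⟨y, rfl⟩ := e.surjective x
  rw [LinearEquiv.conj_apply_apply, LinearEquiv.symm_apply_apply]
  have := FinFr.pullExact_out (FinFr.galAct a (FinFr.arith k K).symm)
  exact (EtCore.HpullVia_natural (FinFr.galAct a (FinFr.arith k K).symm) (FinFr.extπ K a) (FinFr.extπ K a)
    (FinFr.galAct_fst a _) φ.hom n y).symm

end Frob

section ExtZeroId

omit [Fact FinFr.PullExact.{u}]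

/-- restriction along the identity is the identity -/
noncomputable def restrIdIso {X : Scheme.{u}} [EtShriek.JCont (𝟙 X)] :
    (EtShriek.compEtale (𝟙 X)).sheafPushforwardContinuous AddCommGrpCat.{u + 1} X.smallEtaleTopology
      X.smallEtaleTopology ≅ 𝟭 (EtCoh.Ab X) :=
  let e : EtShriek.compEtale (𝟙 X) ≅ 𝟭 X.Etale :=
    NatIso.ofComponents (fun V => MorphismProperty.Over.isoMk (Iso.refl _)
      ((Category.id_comp _).trans (Category.comp_id _).symm))
      (fun f => MorphismProperty.Over.Hom.ext ((Category.comp_id _).trans (Category.id_comp _).symm))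
  NatIso.ofComponents (fun G => (fullyFaithfulSheafToPresheaf _ _).preimageIso
    (NatIso.ofComponents (fun V => G.obj.mapIso (e.symm.app V.unop).op.symm) (fun {V W} f => by
      show G.obj.map _ ≫ G.obj.map _ = G.obj.map _ ≫ G.obj.map _
      rw [← Functor.map_comp, ← Functor.map_comp]
      exact congrArg G.obj.map (congrArg Quiver.Hom.op (MorphismProperty.Over.Hom.ext
        ((Category.id_comp _).trans (Category.comp_id _).symm))))))
    (fun {G H} φ => Sheaf.hom_ext (NatTrans.ext (funext fun V => (φ.hom.naturality _).symm)))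

/-- `(𝟙)_! L ≅ L`, equivariantly -/
theorem exists_extZeroId_iso {X : Scheme.{u}} [EtShriek.JCont (𝟙 X)] (L : EtLam.Sheaf Λ X) :
    ∃ φ : L.carrier ≅ (FinFr.extZeroLam (𝟙 X) L).carrier,
      ∀ r, L.act r ≫ φ.hom = φ.hom ≫ (FinFr.extZeroLam (𝟙 X) L).act r := by
  let adj := EtShriek.extZeroAdj (𝟙 X)
  have : IsIso (adj.unit.app L.carrier) :=
    (EtFound.isIso_iff_stalks _).2 fun Ω _ _ ξ => EtFound.isIso_stalk_unit (𝟙 X) L.carrier ξ
  refine ⟨asIso (adj.unit.app L.carrier) ≪≫ (restrIdIso (X := X)).app _, fun r => ?_⟩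
  have h1 := adj.unit.naturality (L.act r)
  have h2 := (restrIdIso (X := X)).hom.naturality ((EtShriek.extZero (𝟙 X)).map (L.act r))
  show L.act r ≫ adj.unit.app L.carrier ≫ _ = (adj.unit.app L.carrier ≫ _) ≫ _
  rw [Category.assoc]
  exact ((Category.assoc _ _ _).symm.trans ((congrArg (· ≫ _) h1).trans
    ((Category.assoc _ _ _).trans (congrArg (adj.unit.app L.carrier ≫ ·) h2))))

end ExtZeroId

section Finite

omit [Fact FinFr.PullExact.{u}]

theorem isConstructible_carrier [Finite Λ] {X : Scheme.{u}} {L : EtLam.Sheaf Λ X} (hL : EtLam.IsConstructible L) :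
    EtPBC.IsConstructible L.carrier := by
  intro U hU
  obtain ⟨n, T, g, h1, h2, h3, h4, h5⟩ := hL U hU
  refine ⟨n, T, g, h1, h2, h3, h4, fun i _ => ?_⟩
  obtain ⟨ι, V, hV, h⟩ := h5 i
  refine ⟨ι, V, hV, fun a => ?_⟩
  obtain ⟨M, iA, iM, iF, e, -⟩ := h a
  exact ⟨M, iA, Module.finite_of_finite Λ, ⟨e⟩⟩

/-- sections over a scheme with one point inject into each stalk -/
theorem finite_H_zero {T : Scheme.{u}} [Subsingleton T] (G : EtCoh.Ab T) {Ω : Type u} [Field Ω] [IsSepClosed Ω]
    (ξ : Spec (CommRingCat.of Ω) ⟶ T) [Finite ((EtCoh.stalk ξ).obj G)] : Finite (EtCoh.H T G 0) := by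
  obtain ⟨z, -⟩ := Scheme.pointSmallEtaleFiberObjToPreimage_surjective ξ rfl (EtCoh.top T) ⟨ξ.base default, rfl⟩
  haveI : Finite ↑((Scheme.pointSmallEtale ξ).presheafFiber.obj G.obj : AddCommGrpCat.{u + 1}) := ‹Finite ((EtCoh.stalk ξ).obj G)›
  have : Finite (G.obj.obj (op (EtCoh.top T))) :=
    Finite.of_injective (fun s => (Scheme.pointSmallEtale ξ).toPresheafFiber (EtCoh.top T) z G.obj s) fun s s' hs => by
      refine EtLimCore.eq_of_germs G s s' fun k _ _ ζ w => ?_
      rw [← sub_eq_zero, ← map_sub]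
      refine EtFound.germ_eq_zero_of_specializes (s - s') w z (specializes_of_eq ?_) ?_
      · exact Subsingleton.elim (α := T) _ _
      · rw [map_sub, sub_eq_zero]
        exact hs
  let adj := constantSheafAdj T.smallEtaleTopology AddCommGrpCat.{u + 1} (EtCore.topIsTerminal T)
  haveI : Finite ↑(((sheafSections T.smallEtaleTopology AddCommGrpCat.{u + 1}).obj (op (EtCoh.top T))).obj G) := this
  exact Finite.of_equiv _ ((Abelian.Ext.addEquiv₀.toEquiv.trans
    ((adj.homEquiv _ _).trans (AddCommGrpCat.uliftZMultiplesAddEquiv _).toEquiv))).symm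

end Finite

end Groth.Agent.Trace051
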