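import Mathlib.LinearAlgebra.Trace
import Mathlib.LinearAlgebra.FreeModule.Finite.Basic
import Mathlib.LinearAlgebra.Pi
import Mathlib.RingTheory.Finiteness.Prod

/-! traces of maps that permute the factors of a product -/

namespace Groth.Agent.Trace051

variable {K : Type*} [Field K] {V : Type*} [AddCommGroup V] [Module K V]
  {ι : Type*} [Fintype ι] {M : ι → Type*} [∀ i, AddCommGroup (M i)] [∀ i, Module K (M i)]
  [∀ i, Module.Finite K (M i)]

theorem trace_pi [DecidableEq ι] (f : (∀ i, M i) →ₗ[K] ∀ i, M i) :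
    LinearMap.trace K _ f =
      ∑ i, LinearMap.trace K (M i) (LinearMap.proj i ∘ₗ f ∘ₗ LinearMap.single K M i) := by
  have hid : f = ∑ i, (f ∘ₗ LinearMap.single K M i) ∘ₗ LinearMap.proj i := by
    refine LinearMap.ext fun x => ?_
    rw [LinearMap.sum_apply]
    simp only [LinearMap.comp_apply, LinearMap.proj_apply, LinearMap.single_apply, ← map_sum,
      Finset.univ_sum_single]
  conv_lhs => rw [hid, map_sum]
  exact Finset.sum_congr rfl fun i _ =>
    (LinearMap.trace_comp_comm' (f ∘ₗ LinearMap.single K M i) (LinearMap.proj i)).symm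

theorem trace_of_jointly_bijective (R : ∀ i, V →ₗ[K] M i) (hR : Function.Bijective fun x i => R i x)
    (f : V →ₗ[K] V) (t : ι → K)
    (h : ∀ i, (∃ h : M i →ₗ[K] M i, R i ∘ₗ f = h ∘ₗ R i ∧ LinearMap.trace K _ h = t i) ∨
      (∃ j, j ≠ i ∧ (∀ x, R j x = 0 → R i (f x) = 0) ∧ t i = 0)) :
    LinearMap.trace K V f = ∑ i, t i := by
  classical
  let e : V ≃ₗ[K] ∀ i, M i := LinearEquiv.ofBijective (LinearMap.pi R) hR
  rw [← LinearMap.trace_conj' f e, trace_pi]
  refine Finset.sum_congr rfl fun i _ => ?_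
  have he : ∀ k (v : M i), R k (e.symm (LinearMap.single K M i v)) = Pi.single (M := M) i v k := fun k v =>
    congrFun (e.apply_symm_apply (LinearMap.single K M i v)) k
  rcases h i with ⟨h', hh, ht⟩ | ⟨j, hj, hker, ht⟩
  · rw [← ht]
    congr 1
    refine LinearMap.ext fun v => ?_
    show R i (f (e.symm (LinearMap.single K M i v))) = h' v
    rw [← LinearMap.comp_apply, hh, LinearMap.comp_apply, he, Pi.single_eq_same]
  · rw [ht]
    refine (congrArg (LinearMap.trace K (M i)) (?_ : _ = (0 : M i →ₗ[K] M i))).trans (map_zero _)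
    refine LinearMap.ext fun v => ?_
    show R i (f (e.symm (LinearMap.single K M i v))) = 0
    refine hker _ ?_
    rw [he, Pi.single_eq_of_ne hj]

end Groth.Agent.Trace051
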