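import Groth.Agent.S0088
import Groth.Agent.EtFound.AbRecollement
import Groth.Agent.EtFound.FinitePoints
import Groth.Agent.EtBCA.Hpull
import Mathlib.AlgebraicGeometry.AlgClosed.Basic

/-! sections of sheaves on finite schemes over algebraically closed fields -/

universe u

open CategoryTheory CategoryTheory.Limits AlgebraicGeometry Opposite CategoryTheory.Abelian

namespace Groth.Agent.Trace051

set_option backward.isDefEq.respectTransparency.types false

/-- projection of a fan with a single nonzero factor -/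
theorem isIso_proj_of_isZero {C : Type*} [Category C] [HasZeroMorphisms C] {ι : Type*} {f : ι → C} (c : Fan f)
    (hc : IsLimit c) (i₀ : ι) (h : ∀ i, i ≠ i₀ → IsZero (f i)) : IsIso (c.proj i₀) := by
  classical
  let inv : f i₀ ⟶ c.pt := Fan.IsLimit.lift hc fun i => if e : i₀ = i then eqToHom (congrArg f e) else 0
  have h2 : inv ≫ c.proj i₀ = 𝟙 _ := (Fan.IsLimit.fac hc _ i₀).trans (by simp)
  refine ⟨inv, Fan.IsLimit.hom_ext hc _ _ fun i => ?_, h2⟩
  by_cases e : i = i₀
  · subst e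
    rw [Category.assoc, h2, Category.comp_id, Category.id_comp]
  · exact (h i e).eq_of_tgt _ _

variable {K : Type u} [Field K] [IsAlgClosed K] {X : Scheme.{u}} (g : X ⟶ Spec (CommRingCat.of K)) [IsFinite g]

include g in
theorem isClosed_point (p : X) : IsClosed ({p} : Set X) := by
  haveI : DiscreteTopology X := by
    have hd := g.isDiscrete_preimage_singleton (g.base p)
    rw [show g.base ⁻¹' {g.base p} = Set.univ from
      Set.eq_univ_of_forall fun t => Subsingleton.elim (α := Spec (CommRingCat.of K)) _ _] at hd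
    exact isDiscrete_univ_iff.1 hd
  exact isClosed_discrete _

include g in
/-- higher cohomology vanishes -/
theorem subsingleton_H (F : EtCoh.Ab X) (i : ℕ) (hi : 1 ≤ i) : Subsingleton (EtCoh.H X F i) := by
  haveI : IsAffine X := isAffine_of_isAffineHom g
  refine S0088.result X (isClosed_point g) (fun s => ?_) F i hi
  have e := (residueFieldIsoBase g s (isClosed_point g s)).commRingCatIsoToRingEquiv
  haveI : IsAlgClosed (X.residueField s) := IsAlgClosed.of_ringEquiv K _ e.symm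
  infer_instance

abbrev Pts : Type u := {ξ : Spec (CommRingCat.of K) ⟶ X // ξ ≫ g = 𝟙 _}

theorem existsUnique_pt (p : X) : ∃! ξ : Pts g, ξ.1.base (IsLocalRing.closedPoint K) = p := by
  refine ⟨⟨_, pointOfClosedPoint_comp g p (isClosed_point g p)⟩,
    pointOfClosedPoint_apply g p (isClosed_point g p) _, fun ξ hξ => Subtype.ext ?_⟩
  exact ext_of_apply_closedPoint_eq g ξ.2 (pointOfClosedPoint_comp g p (isClosed_point g p))
    (hξ.trans (pointOfClosedPoint_apply g p (isClosed_point g p) _).symm)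

variable {T : Scheme.{u}} (j : T ⟶ Spec (CommRingCat.of K)) [IsIso j]

theorem range_pt (ξ : Pts g) : Set.range (j ≫ ξ.1).base = {ξ.1.base (IsLocalRing.closedPoint K)} := by
  ext x
  constructor
  · rintro ⟨t, rfl⟩
    refine (Scheme.Hom.comp_apply _ _ _).trans (congrArg ξ.1.base ?_)
    exact Subsingleton.elim (α := Spec (CommRingCat.of K)) _ _
  · rintro rfl
    refine ⟨(inv j).base (IsLocalRing.closedPoint K), ?_⟩
    rw [← Scheme.Hom.comp_apply, IsIso.inv_hom_id_assoc]

/-- the unit into the product of the skyscrapers is an isomorphism -/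
theorem bijective_Hpull_points (F : EtCoh.Ab X)
    [∀ ξ : Pts g, PreservesFiniteLimits (EtCoh.pull (j ≫ ξ.1))] :
    Function.Bijective fun (x : EtCoh.H X F 0) (ξ : Pts g) => EtCore.Hpull (j ≫ ξ.1) F 0 x := by
  classical
  haveI : Finite (Pts g) := EtFound.finite_points (f := g) (𝟙 _)
  haveI hci : ∀ ξ : Pts g, IsClosedImmersion (j ≫ ξ.1) := fun ξ => by
    haveI := isClosedImmersion_of_comp_eq_id _ _ ξ.2
    infer_instance
  let G : Pts g → EtCoh.Ab X := fun ξ => (EtCoh.push (j ≫ ξ.1)).obj ((EtCoh.pull (j ≫ ξ.1)).obj F)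
  let u : F ⟶ ∏ᶜ G := Pi.lift fun ξ => (EtCoh.pullPushAdj (j ≫ ξ.1)).unit.app F
  have hu : IsIso u := (EtFound.isIso_iff_stalks _).2 fun Ω _ _ η => by
    obtain ⟨ξ₀, hξ₀, huniq⟩ := existsUnique_pt g (η.base (default : Spec (CommRingCat.of Ω)))
    let c := Fan.mk ((EtCoh.stalk η).obj (∏ᶜ G)) fun ξ => (EtCoh.stalk η).map (Pi.π G ξ)
    have hc : IsLimit c := isLimitFanMkObjOfIsLimit (EtCoh.stalk η) _ _ (productIsProduct G)
    haveI : IsIso (c.proj ξ₀) := isIso_proj_of_isZero c hc ξ₀ fun ξ hne =>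
      EtFound.isZero_stalk_push_closed (j ≫ ξ.1) _ η fun hm => hne (huniq ξ (by
        rw [range_pt] at hm
        exact hm.symm))
    have hcomp : (EtCoh.stalk η).map u ≫ c.proj ξ₀ =
        (EtCoh.stalk η).map ((EtCoh.pullPushAdj (j ≫ ξ₀.1)).unit.app F) :=
      ((EtCoh.stalk η).map_comp _ _).symm.trans (congrArg _ (Pi.lift_π _ ξ₀))
    haveI : IsIso ((EtCoh.stalk η).map u ≫ c.proj ξ₀) := by
      rw [hcomp]
      refine EtFound.isIso_stalk_unit_closed (j ≫ ξ₀.1) F η ?_
      rw [range_pt]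
      exact hξ₀.symm
    exact IsIso.of_isIso_comp_right _ (c.proj ξ₀)
  let Z := EtCoh.const X ℤ
  let E : (Z ⟶ F) ≃ (∀ ξ : Pts g, EtCoh.const T ℤ ⟶ (EtCoh.pull (j ≫ ξ.1)).obj F) :=
    ((Iso.refl Z).homCongr (asIso u)).trans
      ({ toFun := fun h ξ => h ≫ Pi.π G ξ
         invFun := fun h => Pi.lift h
         left_inv := fun h => by ext ξ; simp
         right_inv := fun h => by funext ξ; simp } : (Z ⟶ ∏ᶜ G) ≃ ∀ ξ, Z ⟶ G ξ) |>.trans
      (Equiv.piCongrRight fun ξ => ((EtCoh.pullPushAdj (j ≫ ξ.1)).homEquiv Z _).symm.trans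
        ((EtCore.pullConst (j ≫ ξ.1) ℤ).homCongr (Iso.refl _)))
  let A := Ext.addEquiv₀ (X := Z) (Y := F)
  refine Eq.mp (congrArg Function.Bijective (funext fun x => funext fun ξ => ?_))
    ((A.toEquiv.trans (E.trans (Equiv.piCongrRight fun ξ => Ext.addEquiv₀.toEquiv.symm))).bijective)
  obtain ⟨f, rfl⟩ := (Ext.mk₀_bijective Z F).2 x
  have hA : A (Ext.mk₀ f) = f := A.apply_symm_apply f
  show Ext.mk₀ (E (A (Ext.mk₀ f)) ξ) = EtCore.Hpull (j ≫ ξ.1) F 0 (Ext.mk₀ f)
  rw [hA, EtMVLib.Hpull_apply, Ext.mapExactFunctor_mk₀, Ext.mk₀_comp_mk₀]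
  congr 1
  show (EtCore.pullConst (j ≫ ξ.1) ℤ).inv ≫
    ((EtCoh.pullPushAdj (j ≫ ξ.1)).homEquiv Z _).symm ((𝟙 Z ≫ f ≫ u) ≫ Pi.π G ξ) ≫ 𝟙 _ = _
  rw [Category.id_comp, Category.assoc, Pi.lift_π, Category.comp_id]
  congr 1
  rw [Adjunction.homEquiv_naturality_left_symm]
  show (EtCoh.pull _).map f ≫ ((EtCoh.pullPushAdj (j ≫ ξ.1)).homEquiv F _).symm _ = _
  rw [Adjunction.homEquiv_counit, Adjunction.left_triangle_components]
  exact Category.comp_id _

end Groth.Agent.Trace051
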